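import Groth.Agent.Lib.RigDesc22.Glue
import Groth.Agent.Lib.PicDesc21.Classes

/-!
# Descent of rigidified classes
-/

universe u

open CategoryTheory CategoryTheory.Limits AlgebraicGeometry

set_option autoImplicit false
set_option backward.isDefEq.respectTransparency false

noncomputable section

namespace Groth.Agent.RigDesc22

open Groth.Agent.PicDesc21

variable {X S : Scheme.{u}} (f : X ⟶ S)

theorem XTmap_comp {T T' T'' : Over S} (g : T'' ⟶ T') (h : T' ⟶ T) :
    PicF.XTmap f g ≫ PicF.XTmap f h = PicF.XTmap f (g ≫ h) := by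
  apply pullback.hom_ext <;> simp [PicF.XTmap]

theorem pullCl_XTmap {T T' T'' : Over S} (g : T'' ⟶ T') (h : T' ⟶ T) (c : PicF.Cl (PicF.XT f T)) :
    PicF.pullCl (PicF.XTmap f g) (PicF.pullCl (PicF.XTmap f h) c) = PicF.pullCl (PicF.XTmap f (g ≫ h)) c := by
  rw [pullCl_pullCl, XTmap_comp]

theorem XTmap_proj {T T' : Over S} (g : T' ⟶ T) :
    PicF.XTmap f g ≫ PicF.XTproj f T = PicF.XTproj f T' ≫ g.left := pullback.lift_snd _ _ _

variable (σ : S ⟶ X) (hσ : σ ≫ f = 𝟙 S)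

theorem secT_proj (T : Over S) : PicF.secT f σ hσ T ≫ PicF.XTproj f T = 𝟙 _ := pullback.lift_snd _ _ _

theorem secT_XTmap {T T' : Over S} (g : T' ⟶ T) :
    PicF.secT f σ hσ T' ≫ PicF.XTmap f g = g.left ≫ PicF.secT f σ hσ T := by
  apply pullback.hom_ext
  · simp [PicF.secT, PicF.XTmap, Over.w_assoc]
  · simp [PicF.secT, PicF.XTmap]
    exact Category.id_comp _

theorem trivial_pull {T T' : Over S} (g : T' ⟶ T) {c : PicF.Cl (PicF.XT f T)}
    (h : PicF.IsTrivialCl (PicF.pullCl (PicF.secT f σ hσ T) c)) :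
    PicF.IsTrivialCl (PicF.pullCl (PicF.secT f σ hσ T') (PicF.pullCl (PicF.XTmap f g) c)) := by
  rw [pullCl_pullCl, secT_XTmap, ← pullCl_pullCl]
  exact pullCl_trivial _ h

/-- Every invertible class can be rigidified by a class from the base. -/
theorem exists_normalise {T : Over S} {c : PicF.Cl (PicF.XT f T)} (hc : PicF.IsInvertibleCl c) :
    ∃ n : PicF.Cl T.left, PicF.IsInvertibleCl n ∧
      PicF.IsTrivialCl (PicF.pullCl (PicF.secT f σ hσ T) (PicGrp.mulCl c (PicF.pullCl (PicF.XTproj f T) n))) := by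
  obtain ⟨d, hd⟩ := M2.exists_invCl ⟨_, isInvertibleCl_pull (PicF.secT f σ hσ T) hc⟩
  refine ⟨d.1, d.2, ?_⟩
  rw [PicF.IsTrivialCl, pullCl_mulCl, pullCl_pullCl, secT_proj, PicLoc.pullCl_id, M2.mulCl_comm]
  exact hd

/-- A covering presieve contains a small covering family. -/
theorem exists_family {T : Scheme.{u}} {R : Presieve T} (hR : R ∈ Scheme.fppfPrecoverage T) :
    ∃ (ι : Type u) (U : ι → Scheme.{u}) (u : ∀ i, U i ⟶ T),
      Presieve.ofArrows U u ∈ Scheme.fppfPrecoverage T ∧ ∀ i, R (u i) := by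
  obtain ⟨hsurj, hflat⟩ := mem_fppf_iff.1 (mem_fppf_presieve hR)
  choose k hk using hsurj
  exact ⟨T, fun x => (k x).1, fun x => (k x).2.1, mem_fppf_iff.2 ⟨fun x => ⟨x, hk x⟩, fun x => hflat (k x)⟩,
    fun x => (k x).2.2⟩

variable (ha₀ : ∀ (T : Scheme.{u}) (τ : T ⟶ S), Function.Bijective (pullback.snd f τ).appTop)

include ha₀ in
/-- Rigidified classes which agree on the double overlaps descend. -/
theorem exists_descended_cl {T : Over S} {ι : Type u} {U : ι → Scheme.{u}} {u : ∀ i, U i ⟶ T.left}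
    (hu : Presieve.ofArrows U u ∈ Scheme.fppfPrecoverage T.left)
    (d : ∀ i, PicF.Cl (PicF.XT f (AbDual.ovr T (u i)))) (hd : ∀ i, PicF.IsInvertibleCl (d i))
    (hd₀ : ∀ i, PicF.IsTrivialCl (PicF.pullCl (PicF.secT f σ hσ _) (d i)))
    (hglue : ∀ i j (V : Over S) (a : V ⟶ AbDual.ovr T (u i)) (b : V ⟶ AbDual.ovr T (u j)),
      a.left ≫ u i = b.left ≫ u j → PicF.pullCl (PicF.XTmap f a) (d i) = PicF.pullCl (PicF.XTmap f b) (d j)) :
    ∃ c : PicF.Cl (PicF.XT f T), PicF.IsInvertibleCl c ∧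
      PicF.IsTrivialCl (PicF.pullCl (PicF.secT f σ hσ T) c) ∧
      ∀ i, PicF.pullCl (PicF.XTmap f (AbDual.ovrHom T (u i))) c = d i := by
  choose L hL hLi using hd
  let q := PicF.XTproj f T
  let s := PicF.secT f σ hσ T
  have hs : s ≫ q = 𝟙 _ := secT_proj f σ hσ T
  let e : ∀ {V : Scheme.{u}} (v : V ⟶ T.left), pullback q v ≅ PicF.XT f (AbDual.ovr T v) := fun v =>
    pullbackLeftPullbackSndIso f T.hom v
  have he : ∀ i, (e (u i)).hom ≫ PicF.XTmap f (AbDual.ovrHom T (u i)) = pullback.fst q (u i) := fun i => by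
    apply pullback.hom_ext
    · simp [e, PicF.XTmap, q]
    · simp [e, PicF.XTmap, q, pullback.condition]
  have hes : ∀ i, sec q s hs (u i) ≫ (e (u i)).hom = PicF.secT f σ hσ (AbDual.ovr T (u i)) := fun i => by
    apply pullback.hom_ext
    · simp [e, PicF.secT, q, s, sec]
    · simp [e, PicF.secT, q, s, sec]
  have hex : ∀ {V : Scheme.{u}} {v : V ⟶ T.left} (i : ι) (a : V ⟶ U i) (h : a ≫ u i = v),
      Xm q a h ≫ (e (u i)).hom = (e v).hom ≫ PicF.XTmap f
        (Over.homMk a (show a ≫ u i ≫ T.hom = v ≫ T.hom by rw [reassoc_of% h]) :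
          AbDual.ovr T v ⟶ AbDual.ovr T (u i)) := fun i a h => by
    apply pullback.hom_ext
    · simp [e, PicF.XTmap, q, Xm]
    · simp [e, PicF.XTmap, q, Xm]
  let N : ∀ i, (pullback q (u i)).Modules := fun i => (Scheme.Modules.pullback (e (u i)).hom).obj (L i)
  have hN : ∀ i, PicF.IsInvertible (N i) := fun i => PicLoc.isInvertible_pullback _ (hLi i)
  have hcl : ∀ i, PicF.cl (N i) = PicF.pullCl (e (u i)).hom (d i) := fun i => by
    rw [← hL i, PicLoc.pullCl_cl]
  have hρ : ∀ i, Nonempty (pb (sec q s hs (u i)) (N i) ≅ pb (u i) (Coh.structureModule T.left)) := fun i => by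
    refine (PicGrp.cl_eq_cl_iff _ _).1 ?_
    rw [cl_pb, cl_pb, hcl, pullCl_pullCl, pullCl_structure, hes]
    exact hd₀ i
  have hg : ∀ i j, Nonempty (pb (Xm q (pullback.fst (u i) (u j)) rfl) (N i) ≅
      pb (Xm q (pullback.snd (u i) (u j)) (pullback.condition.symm :
        pullback.snd (u i) (u j) ≫ u j = pullback.fst (u i) (u j) ≫ u i)) (N j)) := fun i j => by
    refine (PicGrp.cl_eq_cl_iff _ _).1 ?_
    rw [cl_pb, cl_pb, hcl, hcl, pullCl_pullCl, pullCl_pullCl, hex, hex, ← pullCl_pullCl, ← pullCl_pullCl]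
    exact congrArg _ (hglue i j _ _ _ pullback.condition)
  obtain ⟨M, hM, hMi⟩ := exists_descended q s hs (bijective_appTop_base f ha₀ T) hN (fun i => (hρ i).some) hg hu
  have hMd : ∀ i, PicF.pullCl (PicF.XTmap f (AbDual.ovrHom T (u i))) (PicF.cl M) = d i := fun i => by
    have h := (PicGrp.cl_eq_cl_iff _ _).2 (hMi i)
    rw [← PicLoc.pullCl_cl, hcl, ← he i, ← pullCl_pullCl] at h
    have h' := congrArg (PicF.pullCl (e (u i)).inv) h
    simpa only [pullCl_pullCl, ← Category.assoc, Iso.inv_hom_id, Category.id_comp, PicLoc.pullCl_id] using h'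
  obtain ⟨n, hn, htriv⟩ := exists_normalise f σ hσ (c := PicF.cl M) ⟨M, rfl, hM⟩
  refine ⟨_, M2.isInvertibleCl_mulCl ⟨M, rfl, hM⟩ (isInvertibleCl_pull _ hn), htriv, fun i => ?_⟩
  -- the correction is trivial on the members
  have h := trivial_pull f σ hσ (AbDual.ovrHom T (u i)) htriv
  rw [pullCl_mulCl, hMd, pullCl_pullCl (PicF.XTmap f _) (PicF.XTproj f T), XTmap_proj, ← pullCl_pullCl,
    PicF.IsTrivialCl, pullCl_mulCl, hd₀ i, M2.one_mulCl, pullCl_pullCl, secT_proj, PicLoc.pullCl_id] at h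
  rw [pullCl_mulCl, hMd, pullCl_pullCl (PicF.XTmap f _) (PicF.XTproj f T), XTmap_proj, ← pullCl_pullCl, h,
    pullCl_structure, mulCl_one]

end Groth.Agent.RigDesc22

end
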