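import Groth.Agent.Lib.RigDesc22.Classes
import Groth.Agent.Lib.AbDual21.Phi
import Mathlib.AlgebraicGeometry.AlgClosed.Basic

/-!
# Rigidified classes represent the sheafified relative Picard functor
-/

universe u

open CategoryTheory CategoryTheory.Limits AlgebraicGeometry

set_option autoImplicit false
set_option backward.isDefEq.respectTransparency false

noncomputable section

namespace Groth.Agent.RigDesc22

open Groth.Agent.PicDesc21

theorem bijective_appTop_of_isIso {X S : Scheme.{u}} (f : X ⟶ S)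
    (ha : ∀ (T : Over S) (U : T.left.Opens), IsIso ((PicF.XTproj f T).app U)) (T : Scheme.{u}) (τ : T ⟶ S) :
    Function.Bijective (pullback.snd f τ).appTop :=
  (ConcreteCategory.isIso_iff_bijective _).1 (ha (Over.mk τ) ⊤)

/-- Points over an algebraically closed field lift along fppf families. -/
theorem exists_lift_point {T : Scheme.{u}} {ι : Type u} {U : ι → Scheme.{u}} {u : ∀ i, U i ⟶ T}
    (hu : Presieve.ofArrows U u ∈ Scheme.fppfPrecoverage T) (Ω : Type u) [Field Ω] [IsAlgClosed Ω]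
    (σ : Spec (CommRingCat.of Ω) ⟶ T) : ∃ (i : ι) (τ : Spec (CommRingCat.of Ω) ⟶ U i), τ ≫ u i = σ := by
  obtain ⟨hsurj, hfl⟩ := mem_fppf_iff.1 hu
  obtain ⟨i, y, hy⟩ := hsurj (σ (IsLocalRing.closedPoint Ω))
  haveI := (hfl i).2
  obtain ⟨z, -, -⟩ := Scheme.Pullback.exists_preimage_pullback (f := u i) (g := σ) y _ hy
  haveI : LocallyOfFiniteType (pullback.snd (u i) σ) := MorphismProperty.pullback_snd _ _ inferInstance
  haveI : JacobsonSpace (pullback (u i) σ :) := LocallyOfFiniteType.jacobsonSpace (pullback.snd (u i) σ)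
  obtain ⟨c, -, hc⟩ := nonempty_inter_closedPoints (X := (pullback (u i) σ :)) (Z := Set.univ) ⟨z, trivial⟩
    isOpen_univ.isLocallyClosed
  obtain ⟨p, hp⟩ := (pointEquivClosedPoint (pullback.snd (u i) σ)).symm ⟨c, hc⟩
  exact ⟨i, p ≫ pullback.fst (u i) σ, by rw [Category.assoc, pullback.condition, reassoc_of% hp]⟩

variable {X S : Scheme.{u}} (f : X ⟶ S) (σ : S ⟶ X) (hσ : σ ≫ f = 𝟙 S)

/-- What is used of the classes whose sheafification is represented. -/
structure Good (P₀ : ∀ T : Over S, PicF.Cl (PicF.XT f T) → Prop) : Prop where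
  inv : ∀ {T : Over S} {c : PicF.Cl (PicF.XT f T)}, P₀ T c → PicF.IsInvertibleCl c
  pull : ∀ {T T' : Over S} (g : T' ⟶ T) {c : PicF.Cl (PicF.XT f T)}, P₀ T c →
    P₀ T' (PicF.pullCl (PicF.XTmap f g) c)
  mul_base : ∀ {T : Over S} {c : PicF.Cl (PicF.XT f T)} {n : PicF.Cl T.left}, P₀ T c → PicF.IsInvertibleCl n →
    P₀ T (PicGrp.mulCl c (PicF.pullCl (PicF.XTproj f T) n))
  loc : ∀ {T : Over S} {ι : Type u} {U : ι → Scheme.{u}} {u : ∀ i, U i ⟶ T.left},
    Presieve.ofArrows U u ∈ Scheme.fppfPrecoverage T.left → ∀ {c : PicF.Cl (PicF.XT f T)}, PicF.IsInvertibleCl c →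
      (∀ i, P₀ _ (PicF.pullCl (PicF.XTmap f (AbDual.ovrHom T (u i))) c)) → P₀ T c

theorem good_invertible : Good f fun _ c => PicF.IsInvertibleCl c where
  inv h := h
  pull g _ h := isInvertibleCl_pull _ h
  mul_base h hn := M2.isInvertibleCl_mulCl h (isInvertibleCl_pull _ hn)
  loc _ _ h _ := h

theorem good_picZero : Good f fun T c => AbDual.IsPicZeroCl f T c where
  inv h := AbDual21.picZero_invertible h
  pull g _ h := AbDual21.picZero_pull h _ g.left (XTmap_proj f g)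
  mul_base h hn := AbDual21.picZero_mul_base h hn
  loc {T ι U u} hu {c} hc h := by
    refine AbDual21.isPicZeroCl_iff.2 ⟨hc, fun Ω _ _ s => ?_⟩
    obtain ⟨i, τ, hτ⟩ := exists_lift_point hu Ω s
    have h1 := (AbDual21.isPicZeroCl_iff.1 (h i)).2 Ω τ
    rw [pullCl_pullCl] at h1
    let k : pullback (PicF.XTproj f T) s ⟶ pullback (PicF.XTproj f (AbDual.ovr T (u i))) τ :=
      pullback.lift
        (pullback.lift (pullback.fst _ _ ≫ pullback.fst f T.hom) (pullback.snd _ _ ≫ τ) (by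
          simp only [Category.assoc, pullback.condition, pullback.condition_assoc, AbDual.ovr, Over.mk_hom,
            reassoc_of% hτ]))
        (pullback.snd _ _) (pullback.lift_snd _ _ _)
    have h2 := AbDual21.algZ_pull k (pullback.lift_snd _ _ _) h1
    rw [pullCl_pullCl] at h2
    convert h2 using 2
    apply pullback.hom_ext
    · simp [k, PicF.XTmap]
    · simp [k, PicF.XTmap, hτ, pullback.condition]

variable {P₀ : ∀ T : Over S, PicF.Cl (PicF.XT f T) → Prop} (hP₀ : Good f P₀) {P : Over S}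
  {φ : ∀ T : Over S, PicF.Cl (PicF.XT f T) → (T ⟶ P)}
  (hnat : ∀ (T T' : Over S) (g : T' ⟶ T) (c : PicF.Cl (PicF.XT f T)), P₀ T c →
    φ T' (PicF.pullCl (PicF.XTmap f g) c) = g ≫ φ T c)
  (hsurj : ∀ (T : Over S) (g : T ⟶ P), ∃ R ∈ Scheme.fppfPrecoverage T.left, ∀ ⦃U : Scheme.{u}⦄ (u : U ⟶ T.left), R u →
    ∃ c : PicF.Cl (PicF.XT f (AbDual.ovr T u)), P₀ _ c ∧ φ (AbDual.ovr T u) c = AbDual.ovrHom T u ≫ g)
  (hinj : ∀ (T : Over S) (c c' : PicF.Cl (PicF.XT f T)), P₀ T c → P₀ T c' →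
    φ T c = φ T c' → ∃ R ∈ Scheme.fppfPrecoverage T.left, ∀ ⦃U : Scheme.{u}⦄ (u : U ⟶ T.left), R u →
      PicF.pullCl (PicF.XTmap f (AbDual.ovrHom T u)) c = PicF.pullCl (PicF.XTmap f (AbDual.ovrHom T u)) c')
  (ha₀ : ∀ (T : Scheme.{u}) (τ : T ⟶ S), Function.Bijective (pullback.snd f τ).appTop)

include hP₀ hnat in
/-- Twisting by a class from the base does not change the point. -/
theorem phi_twist {T : Over S} {c : PicF.Cl (PicF.XT f T)} (hc : P₀ T c) {n : PicF.Cl T.left}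
    (hn : PicF.IsInvertibleCl n) : φ T (PicGrp.mulCl c (PicF.pullCl (PicF.XTproj f T) n)) = φ T c := by
  obtain ⟨N, rfl, hN⟩ := hn
  choose U hU hU' using hN
  refine AbDual21.hom_ext_cover (κ := ULift.{u+1} T.left) (u := fun k => (U k.down).ι) (mem_fppf_iff.2 ⟨fun x => ⟨⟨x⟩, ?_⟩,
    fun k => ⟨inferInstance, inferInstance⟩⟩) fun k => ?_
  · rw [Scheme.Opens.range_ι]
    exact hU x
  · rw [← hnat _ _ _ _ (hP₀.mul_base hc ⟨N, rfl, fun y => ⟨_, hU y, hU' y⟩⟩), ← hnat _ _ _ _ hc]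
    refine congrArg (φ _) ?_
    rw [pullCl_mulCl, pullCl_pullCl (PicF.XTmap f _) (PicF.XTproj f T), XTmap_proj, ← pullCl_pullCl]
    rw [show (AbDual.ovrHom T (U k.down).ι).left = (U k.down).ι from rfl,
      show PicF.pullCl (U k.down).ι (PicF.cl N) = PicF.cl (Coh.structureModule _) from
      Quot.sound ⟨((Scheme.Modules.restrictFunctorIsoPullback _).app N).symm ≪≫ (hU' k.down).some⟩]
    exact (congrArg (PicGrp.mulCl _) (pullCl_structure (PicF.XTproj f (AbDual.ovr T (U k.down).ι)))).trans (mulCl_one _)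

include hP₀ hinj ha₀ in
/-- Rigidified classes with the same point are equal. -/
theorem eq_of_phi_eq {T : Over S} {c c' : PicF.Cl (PicF.XT f T)} (hc : P₀ T c) (hc' : P₀ T c')
    (ht : PicF.IsTrivialCl (PicF.pullCl (PicF.secT f σ hσ T) c))
    (ht' : PicF.IsTrivialCl (PicF.pullCl (PicF.secT f σ hσ T) c')) (h : φ T c = φ T c') : c = c' := by
  obtain ⟨R, hR, hR'⟩ := hinj T c c' hc hc' h
  exact cl_eq_of_local f ha₀ σ hσ (hP₀.inv hc) (hP₀.inv hc') (ht.trans ht'.symm) hR hR'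

include hP₀ hnat hsurj hinj ha₀ in
/-- Every point comes from a rigidified class. -/
theorem exists_rig (T : Over S) (g : T ⟶ P) :
    ∃ c : PicF.Cl (PicF.XT f T), P₀ T c ∧ PicF.IsTrivialCl (PicF.pullCl (PicF.secT f σ hσ T) c) ∧ φ T c = g := by
  obtain ⟨R, hR, hR'⟩ := hsurj T g
  obtain ⟨ι, U, u, hu, huR⟩ := exists_family hR
  choose c hc hcφ using fun i => hR' (u i) (huR i)
  choose n hn hnt using fun i => exists_normalise f σ hσ (hP₀.inv (hc i))
  let d := fun i => PicGrp.mulCl (c i) (PicF.pullCl (PicF.XTproj f _) (n i))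
  have hd : ∀ i, P₀ _ (d i) := fun i => hP₀.mul_base (hc i) (hn i)
  have hdφ : ∀ i, φ _ (d i) = AbDual.ovrHom T (u i) ≫ g := fun i =>
    (phi_twist f hP₀ hnat (hc i) (hn i)).trans (hcφ i)
  obtain ⟨e, he, het, hei⟩ := exists_descended_cl f σ hσ ha₀ hu d (fun i => hP₀.inv (hd i)) hnt
    (fun i j V a b hab => eq_of_phi_eq f σ hσ hP₀ hinj ha₀ (hP₀.pull a (hd i)) (hP₀.pull b (hd j))
      (trivial_pull f σ hσ a (hnt i)) (trivial_pull f σ hσ b (hnt j)) (by
        rw [hnat _ _ a _ (hd i), hnat _ _ b _ (hd j), hdφ, hdφ, ← Category.assoc, ← Category.assoc]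
        exact congrArg (· ≫ g) (Over.OverMorphism.ext hab)))
  have hP : P₀ T e := hP₀.loc hu he fun i => by rw [hei]; exact hd i
  refine ⟨e, hP, het, AbDual21.hom_ext_presieve hu ?_⟩
  rintro _ _ ⟨i⟩
  rw [← hnat _ _ _ _ hP, hei, hdφ]

end Groth.Agent.RigDesc22

end
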