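import Groth.Agent.Lib.RigDesc22.Norm
import Groth.Agent.Lib.QcohDesc12.Effective
import Groth.Agent.Lib.ParaFDesc27.DescentFamily

/-!
# Rigidified invertible modules descend along fppf families of the base
-/

universe u

open CategoryTheory CategoryTheory.Limits AlgebraicGeometry CategoryTheory.Pseudofunctor
open CategoryTheory.Pseudofunctor.LocallyDiscreteOpToCat

set_option autoImplicit false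
set_option linter.style.haveILetI false
set_option backward.isDefEq.respectTransparency false
set_option backward.isDefEq.respectTransparency.types false

noncomputable section

namespace Groth.Agent.RigDesc22

open _root_.Desc Groth.Agent.PicDesc21

/-- Composition, as a definition (so that comparisons of composites compare the factors). -/
def mcomp {Y : Scheme.{u}} {L M N : Y.Modules} (φ : L ⟶ M) (ψ : M ⟶ N) : L ⟶ N := φ ≫ ψ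

theorem loc_comp {Y A₁ A₂ A₃ : Scheme.{u}} {g₁ : Y ⟶ A₁} {g₂ : Y ⟶ A₂} {g₃ : Y ⟶ A₃}
    {M₁ : A₁.Modules} {M₂ : A₂.Modules} {M₃ : A₃.Modules}
    {φ : pb g₁ M₁ ⟶ pb g₂ M₂} {ψ : pb g₂ M₂ ⟶ pb g₃ M₃} {χ : pb g₁ M₁ ⟶ pb g₃ M₃}
    (h : mcomp φ ψ = χ) : @CategoryStruct.comp (↑(modPF.{u}.obj ⟨Opposite.op Y⟩)) _ _ _ _ φ ψ = χ := h

theorem ph_trans3 {A₁ A₂ A₃ P₁ P₂ P₃ Z Y : Scheme.{u}} {M₁ : A₁.Modules} {M₂ : A₂.Modules} {M₃ : A₃.Modules}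
    {p₁ : P₁ ⟶ A₁} {p₁' : P₁ ⟶ A₂} {p₂ : P₂ ⟶ A₂} {p₂' : P₂ ⟶ A₃} {p₃ : P₃ ⟶ A₁} {p₃' : P₃ ⟶ A₃}
    {θ₁ : pb p₁ M₁ ⟶ pb p₁' M₂} {θ₂ : pb p₂ M₂ ⟶ pb p₂' M₃} {θ₃ : pb p₃ M₁ ⟶ pb p₃' M₃}
    {a₁ : Z ⟶ A₁} {a₂ : Z ⟶ A₂} {a₃ : Z ⟶ A₃} {s₁ : Z ⟶ P₁} {s₂ : Z ⟶ P₂} {s₃ : Z ⟶ P₃}
    {b₁ : s₁ ≫ p₁ = a₁} {b₁' : s₁ ≫ p₁' = a₂} {b₂ : s₂ ≫ p₂ = a₂} {b₂' : s₂ ≫ p₂' = a₃}
    {b₃ : s₃ ≫ p₃ = a₁} {b₃' : s₃ ≫ p₃' = a₃}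
    (m : Y ⟶ Z) (e : ph s₁ θ₁ a₁ a₂ b₁ b₁' ≫ ph s₂ θ₂ a₂ a₃ b₂ b₂' = ph s₃ θ₃ a₁ a₃ b₃ b₃')
    {f₁ : Y ⟶ A₁} {f₂ : Y ⟶ A₂} {f₃ : Y ⟶ A₃} (n₁ : m ≫ a₁ = f₁) (n₂ : m ≫ a₂ = f₂) (n₃ : m ≫ a₃ = f₃)
    {l₁ : Y ⟶ P₁} {l₂ : Y ⟶ P₂} {l₃ : Y ⟶ P₃} (m₁ : m ≫ s₁ = l₁) (m₂ : m ≫ s₂ = l₂) (m₃ : m ≫ s₃ = l₃)
    (c₁ : l₁ ≫ p₁ = f₁) (c₁' : l₁ ≫ p₁' = f₂) (c₂ : l₂ ≫ p₂ = f₂) (c₂' : l₂ ≫ p₂' = f₃)
    (c₃ : l₃ ≫ p₃ = f₁) (c₃' : l₃ ≫ p₃' = f₃) :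
    ph l₁ θ₁ f₁ f₂ c₁ c₁' ≫ ph l₂ θ₂ f₂ f₃ c₂ c₂' = ph l₃ θ₃ f₁ f₃ c₃ c₃' := by
  subst m₁ m₂ m₃
  have h₁ : ph m (ph s₁ θ₁ a₁ a₂ b₁ b₁') f₁ f₂ n₁ n₂ = ph (m ≫ s₁) θ₁ f₁ f₂ c₁ c₁' := ph_ph s₁ θ₁ m b₁ b₁' n₁ n₂
  have h₂ : ph m (ph s₂ θ₂ a₂ a₃ b₂ b₂') f₂ f₃ n₂ n₃ = ph (m ≫ s₂) θ₂ f₂ f₃ c₂ c₂' := ph_ph s₂ θ₂ m b₂ b₂' n₂ n₃
  have h₃ : ph m (ph s₃ θ₃ a₁ a₃ b₃ b₃') f₁ f₃ n₁ n₃ = ph (m ≫ s₃) θ₃ f₁ f₃ c₃ c₃' := ph_ph s₃ θ₃ m b₃ b₃' n₁ n₃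
  have h₄ := ph_comp m (ph s₁ θ₁ a₁ a₂ b₁ b₁') (ph s₂ θ₂ a₂ a₃ b₂ b₂') n₁ n₂ n₃
  rw [← h₁, ← h₂, h₄, e]
  exact h₃

variable {X S : Scheme.{u}} (q : X ⟶ S) (σ : S ⟶ X) (hσ : σ ≫ q = 𝟙 S)
  (ha₀ : ∀ (T : Scheme.{u}) (τ : T ⟶ S), Function.Bijective (pullback.snd q τ).appTop)
  {ι : Type u} {U : ι → Scheme.{u}} {u : ∀ i, U i ⟶ S} {N : ∀ i, (pullback q (u i)).Modules}
  (hN : ∀ i, PicF.IsInvertible (N i))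
  (ρ : ∀ i, pb (sec q σ hσ (u i)) (N i) ≅ pb (u i) (Coh.structureModule S))
  (hglue : ∀ i j, Nonempty (pb (Xm q (pullback.fst (u i) (u j)) (rfl : _ = pullback.fst (u i) (u j) ≫ u i)) (N i) ≅
    pb (Xm q (pullback.snd (u i) (u j)) (pullback.condition.symm : _ = pullback.fst (u i) (u j) ≫ u i)) (N j)))

include hglue in
theorem iso_pull {i j : ι} {V : Scheme.{u}} {v : V ⟶ S} (a : V ⟶ U i) (b : V ⟶ U j) (ha : a ≫ u i = v)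
    (hb : b ≫ u j = v) : Nonempty (pb (Xm q a ha) (N i) ≅ pb (Xm q b hb) (N j)) := by
  obtain ⟨e⟩ := hglue i j
  let g : V ⟶ pullback (u i) (u j) := pullback.lift a b (ha.trans hb.symm)
  have hg : g ≫ pullback.fst (u i) (u j) ≫ u i = v := by simp [g, ha]
  let φ := ph (Xm q g hg) e.hom (Xm q a ha) (Xm q b hb)
    (Xm_comp q _ _ g hg a (pullback.lift_fst _ _ _)) (Xm_comp q _ _ g hg b (pullback.lift_snd _ _ _))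
  haveI : IsIso φ := isIso_ph _ _ _ _
  exact ⟨asIso φ⟩

/-- The first projection of the double overlap. -/
abbrev pr₁ (u : ∀ i, U i ⟶ S) (i j : ι) : pullback (u i) (u j) ⟶ U i := pullback.fst (u i) (u j)

/-- The second projection of the double overlap. -/
abbrev pr₂ (u : ∀ i, U i ⟶ S) (i j : ι) : pullback (u i) (u j) ⟶ U j := pullback.snd (u i) (u j)

/-- The gluing morphism on the double overlap. -/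
def theta (i j : ι) : pb (Xm q (pr₁ u i j) rfl) (N i) ⟶
    pb (Xm q (pr₂ u i j) (pullback.condition.symm : pr₂ u i j ≫ u j = pr₁ u i j ≫ u i)) (N j) :=
  (existsUnique_isNorm q σ hσ ρ hN ha₀ (pr₁ u i j) (pr₂ u i j) rfl pullback.condition.symm (hglue i j)).choose

theorem theta_isNorm (i j : ι) :
    IsNorm q σ hσ ρ (pr₁ u i j) (pr₂ u i j) rfl pullback.condition.symm (theta q σ hσ ha₀ hN ρ hglue i j) :=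
  (existsUnique_isNorm q σ hσ ρ hN ha₀ (pr₁ u i j) (pr₂ u i j) rfl pullback.condition.symm (hglue i j)).choose_spec.1

variable {Y : Scheme.{u}} {qY : Y ⟶ X}

theorem fac_eq {i j : ι} (f₁ : Y ⟶ pullback q (u i)) (f₂ : Y ⟶ pullback q (u j))
    (h₁ : f₁ ≫ pullback.fst q (u i) = qY) (h₂ : f₂ ≫ pullback.fst q (u j) = qY) :
    (f₁ ≫ pullback.snd q (u i)) ≫ u i = (f₂ ≫ pullback.snd q (u j)) ≫ u j := by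
  rw [Category.assoc, Category.assoc, ← pullback.condition, ← pullback.condition, reassoc_of% h₁, reassoc_of% h₂]

/-- The map to the double overlap. -/
def ovl {i j : ι} (f₁ : Y ⟶ pullback q (u i)) (f₂ : Y ⟶ pullback q (u j))
    (h₁ : f₁ ≫ pullback.fst q (u i) = qY) (h₂ : f₂ ≫ pullback.fst q (u j) = qY) :
    Y ⟶ pullback q (pr₁ u i j ≫ u i) :=
  pullback.lift qY (pullback.lift (f₁ ≫ pullback.snd q (u i)) (f₂ ≫ pullback.snd q (u j)) (fac_eq q f₁ f₂ h₁ h₂)) (by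
    subst h₁; rw [Category.assoc, pullback.condition]; simp [pr₁])

theorem ovl_fst {i j : ι} (f₁ : Y ⟶ pullback q (u i)) (f₂ : Y ⟶ pullback q (u j))
    (h₁ : f₁ ≫ pullback.fst q (u i) = qY) (h₂ : f₂ ≫ pullback.fst q (u j) = qY) :
    ovl q f₁ f₂ h₁ h₂ ≫ Xm q (pr₁ u i j) rfl = f₁ := by
  ext <;> simp [ovl, pr₁, h₁]

theorem ovl_snd {i j : ι} (f₁ : Y ⟶ pullback q (u i)) (f₂ : Y ⟶ pullback q (u j))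
    (h₁ : f₁ ≫ pullback.fst q (u i) = qY) (h₂ : f₂ ≫ pullback.fst q (u j) = qY) :
    ovl q f₁ f₂ h₁ h₂ ≫ Xm q (pr₂ u i j) (pullback.condition.symm : pr₂ u i j ≫ u j = pr₁ u i j ≫ u i) = f₂ := by
  ext <;> simp [ovl, pr₂, h₂]

theorem hom_self_aux {i : ι} (f : Y ⟶ pullback q (u i)) (h : f ≫ pullback.fst q (u i) = qY) :
    ph (ovl q f f h h) (theta q σ hσ ha₀ hN ρ hglue i i) f f (ovl_fst q f f h h) (ovl_snd q f f h h) = 𝟙 _ := by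
  let Δ : U i ⟶ pullback (u i) (u i) := pullback.lift (𝟙 _) (𝟙 _) rfl
  have hΔ : Δ ≫ pr₁ u i i ≫ u i = u i := by simp [Δ, pr₁]; exact Category.id_comp _
  have e := (theta_isNorm q σ hσ ha₀ hN ρ hglue i i).pull q σ hσ ρ Δ hΔ (𝟙 _) (𝟙 _) (pullback.lift_fst _ _ _)
    (pullback.lift_snd _ _ _) (Category.id_comp _) (Category.id_comp _)
  have e' := isNorm_unique q σ hσ ρ hN ha₀ ⟨Iso.refl _⟩ e (isNorm_one q σ hσ ρ (𝟙 _) (Category.id_comp _))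
  have hl : f ≫ Xm q Δ hΔ = ovl q f f h h := by
    ext <;> simp [ovl, Δ, h]
  have hf : f ≫ Xm q (𝟙 (U i)) (Category.id_comp (u i)) = f := by rw [Xm_id]; exact Category.comp_id f
  have := congrArg (fun φ => ph f φ f f hf hf) e'
  simp only [ph_ph, ph_one] at this
  exact (ph_congr _ hl.symm _ _ _).trans this

include hN ha₀ hglue in
theorem comp_core {i j k : ι} {P₁ P₂ P₃ W Y : Scheme.{u}} {v₁ : P₁ ⟶ S} {v₂ : P₂ ⟶ S} {v₃ : P₃ ⟶ S} {w : W ⟶ S}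
    {a₁ : P₁ ⟶ U i} {b₁ : P₁ ⟶ U j} {a₂ : P₂ ⟶ U j} {b₂ : P₂ ⟶ U k} {a₃ : P₃ ⟶ U i} {b₃ : P₃ ⟶ U k}
    {ha₁ : a₁ ≫ u i = v₁} {hb₁ : b₁ ≫ u j = v₁} {ha₂ : a₂ ≫ u j = v₂} {hb₂ : b₂ ≫ u k = v₂}
    {ha₃ : a₃ ≫ u i = v₃} {hb₃ : b₃ ≫ u k = v₃}
    {θ₁ : pb (Xm q a₁ ha₁) (N i) ⟶ pb (Xm q b₁ hb₁) (N j)} {θ₂ : pb (Xm q a₂ ha₂) (N j) ⟶ pb (Xm q b₂ hb₂) (N k)}
    {θ₃ : pb (Xm q a₃ ha₃) (N i) ⟶ pb (Xm q b₃ hb₃) (N k)}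
    (n₁ : IsNorm q σ hσ ρ a₁ b₁ ha₁ hb₁ θ₁) (n₂ : IsNorm q σ hσ ρ a₂ b₂ ha₂ hb₂ θ₂)
    (n₃ : IsNorm q σ hσ ρ a₃ b₃ ha₃ hb₃ θ₃)
    (t₁ : W ⟶ P₁) (t₂ : W ⟶ P₂) (t₃ : W ⟶ P₃) (x₁ : t₁ ≫ v₁ = w) (x₂ : t₂ ≫ v₂ = w) (x₃ : t₃ ≫ v₃ = w)
    {A : W ⟶ U i} {B : W ⟶ U j} {C : W ⟶ U k} (y₁ : t₁ ≫ a₁ = A) (y₁' : t₁ ≫ b₁ = B) (y₂ : t₂ ≫ a₂ = B)
    (y₂' : t₂ ≫ b₂ = C) (y₃ : t₃ ≫ a₃ = A) (y₃' : t₃ ≫ b₃ = C)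
    (zA : A ≫ u i = w) (zB : B ≫ u j = w) (zC : C ≫ u k = w)
    (m : Y ⟶ pullback q w) {f₁ : Y ⟶ pullback q (u i)} {f₂ : Y ⟶ pullback q (u j)} {f₃ : Y ⟶ pullback q (u k)}
    (hf₁ : m ≫ Xm q A zA = f₁) (hf₂ : m ≫ Xm q B zB = f₂) (hf₃ : m ≫ Xm q C zC = f₃)
    {l₁ : Y ⟶ pullback q v₁} {l₂ : Y ⟶ pullback q v₂} {l₃ : Y ⟶ pullback q v₃}
    (m₁ : m ≫ Xm q t₁ x₁ = l₁) (m₂ : m ≫ Xm q t₂ x₂ = l₂) (m₃ : m ≫ Xm q t₃ x₃ = l₃)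
    (c₁ : l₁ ≫ Xm q a₁ ha₁ = f₁) (c₁' : l₁ ≫ Xm q b₁ hb₁ = f₂) (c₂ : l₂ ≫ Xm q a₂ ha₂ = f₂)
    (c₂' : l₂ ≫ Xm q b₂ hb₂ = f₃) (c₃ : l₃ ≫ Xm q a₃ ha₃ = f₁) (c₃' : l₃ ≫ Xm q b₃ hb₃ = f₃) :
    mcomp (ph l₁ θ₁ f₁ f₂ c₁ c₁') (ph l₂ θ₂ f₂ f₃ c₂ c₂') = ph l₃ θ₃ f₁ f₃ c₃ c₃' := by
  have N12 := n₁.pull q σ hσ ρ t₁ x₁ A B y₁ y₁' zA zB
  have N23 := n₂.pull q σ hσ ρ t₂ x₂ B C y₂ y₂' zB zC
  have N13 := n₃.pull q σ hσ ρ t₃ x₃ A C y₃ y₃' zA zC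
  have e := isNorm_unique q σ hσ ρ hN ha₀ (iso_pull q hglue A C zA zC) (N12.comp q σ hσ ρ N23) N13
  exact ph_trans3 m e hf₁ hf₂ hf₃ m₁ m₂ m₃ c₁ c₁' c₂ c₂' c₃ c₃'

theorem hom_comp_aux {i j k : ι} (f₁ : Y ⟶ pullback q (u i)) (f₂ : Y ⟶ pullback q (u j)) (f₃ : Y ⟶ pullback q (u k))
    (h₁ : f₁ ≫ pullback.fst q (u i) = qY) (h₂ : f₂ ≫ pullback.fst q (u j) = qY)
    (h₃ : f₃ ≫ pullback.fst q (u k) = qY) :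
    mcomp (ph (ovl q f₁ f₂ h₁ h₂) (theta q σ hσ ha₀ hN ρ hglue i j) f₁ f₂ (ovl_fst q f₁ f₂ h₁ h₂) (ovl_snd q f₁ f₂ h₁ h₂))
      (ph (ovl q f₂ f₃ h₂ h₃) (theta q σ hσ ha₀ hN ρ hglue j k) f₂ f₃ (ovl_fst q f₂ f₃ h₂ h₃) (ovl_snd q f₂ f₃ h₂ h₃)) =
    ph (ovl q f₁ f₃ h₁ h₃) (theta q σ hσ ha₀ hN ρ hglue i k) f₁ f₃ (ovl_fst q f₁ f₃ h₁ h₃) (ovl_snd q f₁ f₃ h₁ h₃) := by
  let W := pullback (pr₂ u i j) (pr₁ u j k)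
  let t₁₂ : W ⟶ pullback (u i) (u j) := pullback.fst _ _
  let t₂₃ : W ⟶ pullback (u j) (u k) := pullback.snd _ _
  have hmid : t₁₂ ≫ pr₂ u i j = t₂₃ ≫ pr₁ u j k := pullback.condition
  have hjk : t₂₃ ≫ pr₁ u j k ≫ u j = t₁₂ ≫ pr₁ u i j ≫ u i := by
    rw [← reassoc_of% hmid]; exact congrArg (t₁₂ ≫ ·) pullback.condition.symm
  have hik : (t₁₂ ≫ pr₁ u i j) ≫ u i = (t₂₃ ≫ pr₂ u j k) ≫ u k := by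
    rw [Category.assoc, ← hjk, Category.assoc]; exact congrArg (t₂₃ ≫ ·) pullback.condition
  let t₁₃ : W ⟶ pullback (u i) (u k) := pullback.lift (t₁₂ ≫ pr₁ u i j) (t₂₃ ≫ pr₂ u j k) hik
  let w := t₁₂ ≫ pr₁ u i j ≫ u i
  have hw₁ : t₁₂ ≫ pr₁ u i j ≫ u i = w := rfl
  have hw₁₃ : t₁₃ ≫ pr₁ u i k ≫ u i = w := by simp [t₁₃, pr₁, w]
  have ha1 : (t₁₂ ≫ pr₁ u i j) ≫ u i = w := Category.assoc _ _ _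
  have ha2 : (t₁₂ ≫ pr₂ u i j) ≫ u j = w := by rw [hmid, Category.assoc, hjk]
  have ha3 : (t₂₃ ≫ pr₂ u j k) ≫ u k = w := hik.symm.trans ha1
  let l : Y ⟶ W := pullback.lift
    (pullback.lift (f₁ ≫ pullback.snd q (u i)) (f₂ ≫ pullback.snd q (u j)) (fac_eq q f₁ f₂ h₁ h₂))
    (pullback.lift (f₂ ≫ pullback.snd q (u j)) (f₃ ≫ pullback.snd q (u k)) (fac_eq q f₂ f₃ h₂ h₃))
    (by simp [pr₁, pr₂])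
  let m : Y ⟶ pullback q w := pullback.lift qY l (by
    subst h₁; rw [Category.assoc, pullback.condition]; simp [l, w, pr₁, t₁₂])
  have m₁ : m ≫ Xm q t₁₂ hw₁ = ovl q f₁ f₂ h₁ h₂ := by ext <;> simp [m, l, t₁₂, ovl]
  have m₂ : m ≫ Xm q t₂₃ hjk = ovl q f₂ f₃ h₂ h₃ := by ext <;> simp [m, l, t₂₃, ovl]
  have m₃ : m ≫ Xm q t₁₃ hw₁₃ = ovl q f₁ f₃ h₁ h₃ := by
    ext <;> simp [m, l, t₁₂, t₂₃, t₁₃, ovl, pr₁, pr₂]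
  have n₁ : m ≫ Xm q _ ha1 = f₁ := by ext <;> simp [m, l, t₁₂, pr₁, h₁]
  have n₂ : m ≫ Xm q _ ha2 = f₂ := by ext <;> simp [m, l, t₁₂, pr₂, h₂]
  have n₃ : m ≫ Xm q _ ha3 = f₃ := by ext <;> simp [m, l, t₂₃, pr₂, h₃]
  exact comp_core q σ hσ ha₀ hN ρ hglue (theta_isNorm q σ hσ ha₀ hN ρ hglue i j)
    (theta_isNorm q σ hσ ha₀ hN ρ hglue j k) (theta_isNorm q σ hσ ha₀ hN ρ hglue i k) t₁₂ t₂₃ t₁₃ hw₁ hjk hw₁₃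
    rfl rfl hmid.symm rfl (pullback.lift_fst _ _ _) (pullback.lift_snd _ _ _) ha1 ha2 ha3 m n₁ n₂ n₃ m₁ m₂ m₃
    _ _ _ _ _ _


omit hglue in
theorem ph_ovl {i j : ι} (θ : pb (Xm q (pr₁ u i j) rfl) (N i) ⟶
      pb (Xm q (pr₂ u i j) (pullback.condition.symm : pr₂ u i j ≫ u j = pr₁ u i j ≫ u i)) (N j))
    {Y' : Scheme.{u}} (g : Y' ⟶ Y) {qY' : Y' ⟶ X} (hq : g ≫ qY = qY') (f₁ : Y ⟶ pullback q (u i))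
    (f₂ : Y ⟶ pullback q (u j)) (h₁ : f₁ ≫ pullback.fst q (u i) = qY) (h₂ : f₂ ≫ pullback.fst q (u j) = qY)
    (g₁ : Y' ⟶ pullback q (u i)) (g₂ : Y' ⟶ pullback q (u j)) (hg₁ : g ≫ f₁ = g₁) (hg₂ : g ≫ f₂ = g₂)
    (k₁ : g₁ ≫ pullback.fst q (u i) = qY') (k₂ : g₂ ≫ pullback.fst q (u j) = qY') :
    ph g (ph (ovl q f₁ f₂ h₁ h₂) θ f₁ f₂ (ovl_fst q f₁ f₂ h₁ h₂) (ovl_snd q f₁ f₂ h₁ h₂)) g₁ g₂ hg₁ hg₂ =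
      ph (ovl q g₁ g₂ k₁ k₂) θ g₁ g₂ (ovl_fst q g₁ g₂ k₁ k₂) (ovl_snd q g₁ g₂ k₁ k₂) := by
  refine (ph_ph (ovl q f₁ f₂ h₁ h₂) θ g (ovl_fst q f₁ f₂ h₁ h₂) (ovl_snd q f₁ f₂ h₁ h₂) hg₁ hg₂).trans
    (ph_congr _ ?_ _ _ _)
  subst hg₁ hg₂ hq
  ext <;> simp [ovl]

/-- The gluing morphisms. -/
def homFn ⦃Y : Scheme.{u}⦄ (qY : Y ⟶ X) ⦃i j : ι⦄ (f₁ : Y ⟶ pullback q (u i)) (f₂ : Y ⟶ pullback q (u j))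
    (h₁ : f₁ ≫ pullback.fst q (u i) = qY) (h₂ : f₂ ≫ pullback.fst q (u j) = qY) :
    pb f₁ (N i) ⟶ pb f₂ (N j) :=
  ph (ovl q f₁ f₂ h₁ h₂) (theta q σ hσ ha₀ hN ρ hglue i j) f₁ f₂ (ovl_fst q f₁ f₂ h₁ h₂) (ovl_snd q f₁ f₂ h₁ h₂)

theorem homFn_self ⦃Y : Scheme.{u}⦄ (qY : Y ⟶ X) ⦃i : ι⦄ (f : Y ⟶ pullback q (u i))
    (h : f ≫ pullback.fst q (u i) = qY) : homFn q σ hσ ha₀ hN ρ hglue qY f f h h = 𝟙 _ :=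
  hom_self_aux q σ hσ ha₀ hN ρ hglue f h

theorem homFn_comp ⦃Y : Scheme.{u}⦄ (qY : Y ⟶ X) ⦃i j k : ι⦄ (f₁ : Y ⟶ pullback q (u i))
    (f₂ : Y ⟶ pullback q (u j)) (f₃ : Y ⟶ pullback q (u k)) (h₁ : f₁ ≫ pullback.fst q (u i) = qY)
    (h₂ : f₂ ≫ pullback.fst q (u j) = qY) (h₃ : f₃ ≫ pullback.fst q (u k) = qY) :
    mcomp (homFn q σ hσ ha₀ hN ρ hglue qY f₁ f₂ h₁ h₂) (homFn q σ hσ ha₀ hN ρ hglue qY f₂ f₃ h₂ h₃) =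
      homFn q σ hσ ha₀ hN ρ hglue qY f₁ f₃ h₁ h₃ :=
  hom_comp_aux q σ hσ ha₀ hN ρ hglue f₁ f₂ f₃ h₁ h₂ h₃

/-- The descent datum. -/
def datum : modPF.{u}.DescentData (fun i => pullback.fst q (u i)) where
  obj := N
  hom := homFn q σ hσ ha₀ hN ρ hglue
  pullHom_hom Y' Y g qY qY' hq i j f₁ f₂ h₁ h₂ g₁ g₂ hg₁ hg₂ :=
    ph_ovl q _ g hq f₁ f₂ h₁ h₂ g₁ g₂ hg₁ hg₂ _ _
  hom_self Y qY i f h := homFn_self q σ hσ ha₀ hN ρ hglue qY f h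
  hom_comp Y qY i j k f₁ f₂ f₃ h₁ h₂ h₃ := loc_comp <| homFn_comp q σ hσ ha₀ hN ρ hglue qY f₁ f₂ f₃ h₁ h₂ h₃

include ha₀ hN ρ hglue in
/-- A rigidified family of invertible modules which agree on the double overlaps descends. -/
theorem exists_descended (hcov : Presieve.ofArrows U u ∈ Scheme.fppfPrecoverage S) :
    ∃ M : X.Modules, PicF.IsInvertible M ∧
      ∀ i, Nonempty ((Scheme.Modules.pullback (pullback.fst q (u i))).obj M ≅ N i) := by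
  have hX : Presieve.ofArrows (fun i => pullback q (u i)) (fun i => pullback.fst q (u i)) ∈
      Scheme.fppfPrecoverage X :=
    mem_fppf_of_isPullback hcov fun i => (IsPullback.of_hasPullback q (u i)).flip
  haveI : ∀ i, Coh.IsQCoh (QcohDesc12.ob (datum q σ hσ ha₀ hN ρ hglue) i) := fun i =>
    Twist.isQCoh_of_isInvertible (hN i)
  obtain ⟨M, hM, ⟨e⟩⟩ := QcohDesc12.exists_iso_toDescentData (D := datum q σ hσ ha₀ hN ρ hglue)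
    (Scheme.fppfPrecoverage_le_fpqcPrecoverage _ hX)
  have ei : ∀ i, (Scheme.Modules.pullback (pullback.fst q (u i))).obj M ≅ N i := fun i =>
    { hom := e.hom.hom i
      inv := e.inv.hom i
      hom_inv_id := congrArg (fun φ => DescentData.Hom.hom φ i) e.hom_inv_id
      inv_hom_id := congrArg (fun φ => DescentData.Hom.hom φ i) e.inv_hom_id }
  obtain ⟨hsurj, hflat⟩ := mem_fppf_iff.1 hX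
  haveI := fun i => (hflat i).1
  haveI := fun i => (hflat i).2
  refine ⟨M, ?_, fun i => ⟨ei i⟩⟩
  exact ParaFDesc27.isInvertible_of_pullback_family (fun i => pullback.fst q (u i))
    (fun i => (pullback.fst q (u i)).isOpenMap) hsurj hM fun i => Twist.isInvertible_of_iso (ei i).symm (hN i)

end Groth.Agent.RigDesc22

end
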