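import Groth.Prelude.Def_Desc
import Groth.Agent.Lib.ThetaGrp19.Scalar
import Groth.Agent.Lib.Twist.Pullback
import Groth.Agent.Lib.PicDesc21.Classes

/-!
# Normalised morphisms between rigidified invertible modules

`q : X ⟶ S` with a section `σ` and with `Γ(T) = Γ(X_T)` universally; a family `u i : U i ⟶ S` and invertible modules
`N i` on `X ×_S U i` trivialised along the section.  Between two pullbacks to `X ×_S V` there is at most one morphism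
compatible with the trivialisations, and there is one as soon as the two are isomorphic.
-/

universe u

open CategoryTheory CategoryTheory.Limits AlgebraicGeometry CategoryTheory.Pseudofunctor
open CategoryTheory.Pseudofunctor.LocallyDiscreteOpToCat

set_option autoImplicit false
set_option linter.style.haveILetI false
set_option backward.isDefEq.respectTransparency false
set_option backward.isDefEq.respectTransparency.types false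

noncomputable section

namespace Groth.Agent.RigDesc22

open Groth.Agent.ThetaGrp19 _root_.Desc

/-- Pullback of modules, as a value of the pseudofunctor of modules. -/
abbrev pb {X Y : Scheme.{u}} (g : Y ⟶ X) (M : X.Modules) : Y.Modules :=
  (modPF.{u}.map g.op.toLoc).toFunctor.obj M

theorem isInvertible_pb {X Y : Scheme.{u}} (g : Y ⟶ X) {M : X.Modules} (h : PicF.IsInvertible M) :
    PicF.IsInvertible (pb g M) := Twist.isInvertible_pullback g h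

theorem cl_pb {X Y : Scheme.{u}} (g : Y ⟶ X) (M : X.Modules) : PicF.cl (pb g M) = PicF.pullCl g (PicF.cl M) :=
  (PicLoc.pullCl_cl g M).symm

section PullHom

variable {X₁ X₂ X₃ Y Y' : Scheme.{u}} {M₁ : X₁.Modules} {M₂ : X₂.Modules} {M₃ : X₃.Modules}
  {f₁ : Y ⟶ X₁} {f₂ : Y ⟶ X₂} {f₃ : Y ⟶ X₃} (g : Y' ⟶ Y) {g₁ : Y' ⟶ X₁} {g₂ : Y' ⟶ X₂} {g₃ : Y' ⟶ X₃}

/-- The pullback of a morphism between pullbacks. -/
def ph (φ : pb f₁ M₁ ⟶ pb f₂ M₂) (g₁ : Y' ⟶ X₁) (g₂ : Y' ⟶ X₂) (h₁ : g ≫ f₁ = g₁) (h₂ : g ≫ f₂ = g₂) :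
    pb g₁ M₁ ⟶ pb g₂ M₂ :=
  pullHom (F := modPF.{u}) φ g g₁ g₂ h₁ h₂

theorem ph_comp (φ : pb f₁ M₁ ⟶ pb f₂ M₂) (ψ : pb f₂ M₂ ⟶ pb f₃ M₃) (h₁ : g ≫ f₁ = g₁) (h₂ : g ≫ f₂ = g₂)
    (h₃ : g ≫ f₃ = g₃) :
    ph g φ g₁ g₂ h₁ h₂ ≫ ph g ψ g₂ g₃ h₂ h₃ = ph g (φ ≫ ψ) g₁ g₃ h₁ h₃ := by
  simp [ph, pb, pullHom, Functor.map_comp, ← reassoc_of% Cat.Hom₂.comp_app, Iso.inv_hom_id]

theorem ph_one (h₁ : g ≫ f₁ = g₁) : ph g (𝟙 (pb f₁ M₁)) g₁ g₁ h₁ h₁ = 𝟙 _ := by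
  simp [ph, pb, pullHom, ← Cat.Hom₂.comp_app, Iso.hom_inv_id]

theorem ph_congr {g' : Y' ⟶ Y} (e : g = g') (φ : pb f₁ M₁ ⟶ pb f₂ M₂) (h₁ : g ≫ f₁ = g₁) (h₂ : g ≫ f₂ = g₂) :
    ph g φ g₁ g₂ h₁ h₂ = ph g' φ g₁ g₂ (e ▸ h₁) (e ▸ h₂) := by
  subst e; rfl

theorem ph_ph (φ : pb f₁ M₁ ⟶ pb f₂ M₂) {Y'' : Scheme.{u}} (g' : Y'' ⟶ Y') {k₁ : Y'' ⟶ X₁} {k₂ : Y'' ⟶ X₂}
    (h₁ : g ≫ f₁ = g₁) (h₂ : g ≫ f₂ = g₂) (h₁' : g' ≫ g₁ = k₁) (h₂' : g' ≫ g₂ = k₂) :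
    ph g' (ph g φ g₁ g₂ h₁ h₂) k₁ k₂ h₁' h₂' =
      ph (g' ≫ g) φ k₁ k₂ (by rw [Category.assoc, h₁, h₁']) (by rw [Category.assoc, h₂, h₂']) :=
  pullHom_pullHom φ g g₁ g₂ g' k₁ k₂ h₁ h₂ h₁' h₂'

theorem isIso_ph (φ : pb f₁ M₁ ⟶ pb f₂ M₂) [IsIso φ] (h₁ : g ≫ f₁ = g₁) (h₂ : g ≫ f₂ = g₂) :
    IsIso (ph g φ g₁ g₂ h₁ h₂) :=
  ⟨ph g (inv φ) g₂ g₁ h₂ h₁, by rw [ph_comp, IsIso.hom_inv_id, ph_one], by
    rw [ph_comp, IsIso.inv_hom_id, ph_one]⟩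

theorem ph_smul (hM : PicF.IsInvertible M₁) (φ : pb f₁ M₁ ⟶ pb f₂ M₂) (c : Γ(Y, ⊤)) (h₁ : g ≫ f₁ = g₁)
    (h₂ : g ≫ f₂ = g₂) :
    ph g (smulHom (pb f₁ M₁) c ≫ φ) g₁ g₂ h₁ h₂ = smulHom (pb g₁ M₁) (g.appTop c) ≫ ph g φ g₁ g₂ h₁ h₂ := by
  have e : (modPF.{u}.map g.op.toLoc).toFunctor.map (smulHom (pb f₁ M₁) c) =
      smulHom (pb g (pb f₁ M₁)) (g.appTop c) := pullback_map_smulHom (isInvertible_pb f₁ hM) g c
  dsimp only [ph, pullHom]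
  rw [Functor.map_comp, Category.assoc, e, ← Category.assoc, ← Category.assoc (smulHom (pb g₁ M₁) _),
    smulHom_naturality]
  simp only [Category.assoc]
  rfl

end PullHom

/-! ### The rigidified family -/

variable {X S : Scheme.{u}} (q : X ⟶ S) (σ : S ⟶ X) (hσ : σ ≫ q = 𝟙 S)

/-- The map `X_V ⟶ X_U` induced by `a : V ⟶ U` over `S`. -/
def Xm {U V : Scheme.{u}} {w : U ⟶ S} {v : V ⟶ S} (a : V ⟶ U) (ha : a ≫ w = v) : pullback q v ⟶ pullback q w :=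
  pullback.lift (pullback.fst q v) (pullback.snd q v ≫ a) (by rw [Category.assoc, ha, pullback.condition])

@[reassoc (attr := simp)] theorem Xm_fst {U V : Scheme.{u}} {w : U ⟶ S} {v : V ⟶ S} (a : V ⟶ U) (ha : a ≫ w = v) :
    Xm q a ha ≫ pullback.fst q w = pullback.fst q v := pullback.lift_fst _ _ _

@[reassoc (attr := simp)] theorem Xm_snd {U V : Scheme.{u}} {w : U ⟶ S} {v : V ⟶ S} (a : V ⟶ U) (ha : a ≫ w = v) :
    Xm q a ha ≫ pullback.snd q w = pullback.snd q v ≫ a := pullback.lift_snd _ _ _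

theorem Xm_id {U : Scheme.{u}} (w : U ⟶ S) (h : 𝟙 U ≫ w = w) : Xm q (𝟙 U) h = 𝟙 _ := by
  ext <;> simp

theorem Xm_comp {U V W : Scheme.{u}} {w : U ⟶ S} {v : V ⟶ S} {t : W ⟶ S} (a : V ⟶ U) (ha : a ≫ w = v) (b : W ⟶ V)
    (hb : b ≫ v = t) (c : W ⟶ U) (hc : b ≫ a = c) :
    Xm q b hb ≫ Xm q a ha = Xm q c (by rw [← hc, Category.assoc, ha, hb]) := by
  subst hc
  ext <;> simp

/-- The section induced on `X_V`. -/
def sec {V : Scheme.{u}} (v : V ⟶ S) : V ⟶ pullback q v :=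
  pullback.lift (v ≫ σ) (𝟙 V) (by rw [Category.assoc, hσ, Category.comp_id, Category.id_comp])

@[reassoc (attr := simp)] theorem sec_fst {V : Scheme.{u}} (v : V ⟶ S) :
    sec q σ hσ v ≫ pullback.fst q v = v ≫ σ := pullback.lift_fst _ _ _

@[reassoc (attr := simp)] theorem sec_snd {V : Scheme.{u}} (v : V ⟶ S) :
    sec q σ hσ v ≫ pullback.snd q v = 𝟙 V := pullback.lift_snd _ _ _

theorem sec_Xm {U V : Scheme.{u}} {w : U ⟶ S} {v : V ⟶ S} (a : V ⟶ U) (ha : a ≫ w = v) :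
    sec q σ hσ v ≫ Xm q a ha = a ≫ sec q σ hσ w := by
  ext <;> simp [reassoc_of% ha]

variable {ι : Type u} {U : ι → Scheme.{u}} {u : ∀ i, U i ⟶ S} {N : ∀ i, (pullback q (u i)).Modules}
  (ρ : ∀ i, pb (sec q σ hσ (u i)) (N i) ≅ pb (u i) (Coh.structureModule S))

/-- The comparison of two trivialisations. -/
def R {V : Scheme.{u}} {v : V ⟶ S} {i j : ι} (a : V ⟶ U i) (b : V ⟶ U j) (ha : a ≫ u i = v) (hb : b ≫ u j = v) :
    pb (a ≫ sec q σ hσ (u i)) (N i) ⟶ pb (b ≫ sec q σ hσ (u j)) (N j) :=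
  ph a (ρ i).hom (a ≫ sec q σ hσ (u i)) v rfl ha ≫ ph b (ρ j).inv v (b ≫ sec q σ hσ (u j)) hb rfl

theorem R_self {V : Scheme.{u}} {v : V ⟶ S} {i : ι} (a : V ⟶ U i) (ha : a ≫ u i = v) :
    R q σ hσ ρ a a ha ha = 𝟙 _ := by
  rw [R, ph_comp, Iso.hom_inv_id, ph_one]

theorem R_comp {V : Scheme.{u}} {v : V ⟶ S} {i j k : ι} (a : V ⟶ U i) (b : V ⟶ U j) (c : V ⟶ U k)
    (ha : a ≫ u i = v) (hb : b ≫ u j = v) (hc : c ≫ u k = v) :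
    R q σ hσ ρ a b ha hb ≫ R q σ hσ ρ b c hb hc = R q σ hσ ρ a c ha hc := by
  rw [R, R, R, Category.assoc, ← Category.assoc (ph b (ρ j).inv _ _ _ _), ph_comp, Iso.inv_hom_id, ph_one,
    Category.id_comp]

theorem ph_R {V V' : Scheme.{u}} {v : V ⟶ S} {v' : V' ⟶ S} {i j : ι} (a : V ⟶ U i) (b : V ⟶ U j) (ha : a ≫ u i = v)
    (hb : b ≫ u j = v) (g : V' ⟶ V) (hg : g ≫ v = v') (a' : V' ⟶ U i) (b' : V' ⟶ U j) (hga : g ≫ a = a')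
    (hgb : g ≫ b = b') :
    ph g (R q σ hσ ρ a b ha hb) (a' ≫ sec q σ hσ (u i)) (b' ≫ sec q σ hσ (u j))
      (by rw [← hga, Category.assoc]) (by rw [← hgb, Category.assoc]) =
    R q σ hσ ρ a' b' (by rw [← hga, Category.assoc, ha, hg]) (by rw [← hgb, Category.assoc, hb, hg]) := by
  subst hga hgb hg
  exact (ph_comp g (ph a (ρ i).hom (a ≫ sec q σ hσ (u i)) v rfl ha) (ph b (ρ j).inv v (b ≫ sec q σ hσ (u j)) hb rfl)
    (Category.assoc _ _ _).symm (rfl : g ≫ v = g ≫ v) (Category.assoc _ _ _).symm).symm.trans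
    (congrArg₂ (· ≫ ·) (ph_ph a (ρ i).hom g rfl ha (Category.assoc _ _ _).symm rfl)
      (ph_ph b (ρ j).inv g hb rfl rfl (Category.assoc _ _ _).symm))

/-- Compatibility of a morphism with the trivialisations. -/
def IsNorm {V : Scheme.{u}} {v : V ⟶ S} {i j : ι} (a : V ⟶ U i) (b : V ⟶ U j) (ha : a ≫ u i = v) (hb : b ≫ u j = v)
    (θ : pb (Xm q a ha) (N i) ⟶ pb (Xm q b hb) (N j)) : Prop :=
  ph (sec q σ hσ v) θ (a ≫ sec q σ hσ (u i)) (b ≫ sec q σ hσ (u j)) (sec_Xm q σ hσ a ha) (sec_Xm q σ hσ b hb) =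
    R q σ hσ ρ a b ha hb

theorem isNorm_one {V : Scheme.{u}} {v : V ⟶ S} {i : ι} (a : V ⟶ U i) (ha : a ≫ u i = v) :
    IsNorm q σ hσ ρ a a ha ha (𝟙 _) := by
  rw [IsNorm, ph_one, R_self]

theorem IsNorm.comp {V : Scheme.{u}} {v : V ⟶ S} {i j k : ι} {a : V ⟶ U i} {b : V ⟶ U j} {c : V ⟶ U k}
    {ha : a ≫ u i = v} {hb : b ≫ u j = v} {hc : c ≫ u k = v} {θ : pb (Xm q a ha) (N i) ⟶ pb (Xm q b hb) (N j)}
    {θ' : pb (Xm q b hb) (N j) ⟶ pb (Xm q c hc) (N k)} (h : IsNorm q σ hσ ρ a b ha hb θ)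
    (h' : IsNorm q σ hσ ρ b c hb hc θ') : IsNorm q σ hσ ρ a c ha hc (θ ≫ θ') := by
  rw [IsNorm] at h h' ⊢
  rw [← R_comp q σ hσ ρ a b c ha hb hc, ← h, ← h', ph_comp]

theorem IsNorm.pull {V V' : Scheme.{u}} {v : V ⟶ S} {v' : V' ⟶ S} {i j : ι} {a : V ⟶ U i} {b : V ⟶ U j}
    {ha : a ≫ u i = v} {hb : b ≫ u j = v} {θ : pb (Xm q a ha) (N i) ⟶ pb (Xm q b hb) (N j)}
    (h : IsNorm q σ hσ ρ a b ha hb θ) (g : V' ⟶ V) (hg : g ≫ v = v') (a' : V' ⟶ U i) (b' : V' ⟶ U j)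
    (hga : g ≫ a = a') (hgb : g ≫ b = b') (ha' : a' ≫ u i = v') (hb' : b' ≫ u j = v') :
    IsNorm q σ hσ ρ a' b' ha' hb'
      (ph (Xm q g hg) θ (Xm q a' ha') (Xm q b' hb') (Xm_comp q a ha g hg a' hga) (Xm_comp q b hb g hg b' hgb)) := by
  rw [IsNorm] at h ⊢
  rw [ph_ph, ← ph_R q σ hσ ρ a b ha hb g hg a' b' hga hgb, ← h, ph_ph]
  exact ph_congr _ (sec_Xm q σ hσ g hg) _ _ _

variable (hN : ∀ i, PicF.IsInvertible (N i))
  (ha₀ : ∀ (T : Scheme.{u}) (τ : T ⟶ S), Function.Bijective (pullback.snd q τ).appTop)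
include hN ha₀

theorem existsUnique_isNorm {V : Scheme.{u}} {v : V ⟶ S} {i j : ι} (a : V ⟶ U i) (b : V ⟶ U j) (ha : a ≫ u i = v)
    (hb : b ≫ u j = v) (he : Nonempty (pb (Xm q a ha) (N i) ≅ pb (Xm q b hb) (N j))) :
    ∃! θ, IsNorm q σ hσ ρ a b ha hb θ := by
  obtain ⟨e⟩ := he
  have hI := isInvertible_pb (Xm q a ha) (hN i)
  have hI' := isInvertible_pb (a ≫ sec q σ hσ (u i)) (hN i)
  set e' := ph (sec q σ hσ v) e.hom (a ≫ sec q σ hσ (u i)) (b ≫ sec q σ hσ (u j)) (sec_Xm q σ hσ a ha)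
    (sec_Xm q σ hσ b hb) with he'
  haveI : IsIso e' := isIso_ph _ _ _ _
  have key : ∀ d : Γ(V, ⊤), ph (sec q σ hσ v) (smulHom _ ((pullback.snd q v).appTop d) ≫ e.hom)
      (a ≫ sec q σ hσ (u i)) (b ≫ sec q σ hσ (u j)) (sec_Xm q σ hσ a ha) (sec_Xm q σ hσ b hb) =
      smulHom _ d ≫ e' := by
    intro d
    rw [ph_smul _ (hN i), ← he']
    congr 2
    rw [← ConcreteCategory.comp_apply, ← Scheme.Hom.comp_appTop, sec_snd, Scheme.Hom.id_appTop]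
    rfl
  have hform : ∀ θ : pb (Xm q a ha) (N i) ⟶ pb (Xm q b hb) (N j),
      ∃ d : Γ(V, ⊤), θ = smulHom _ ((pullback.snd q v).appTop d) ≫ e.hom := by
    intro θ
    obtain ⟨c, hc, -⟩ := existsUnique_smulHom hI (θ ≫ e.inv)
    obtain ⟨d, rfl⟩ := (ha₀ V v).2 c
    exact ⟨d, by rw [← hc, Category.assoc, e.inv_hom_id, Category.comp_id]⟩
  obtain ⟨d₀, hd₀, -⟩ := existsUnique_smulHom hI' (R q σ hσ ρ a b ha hb ≫ inv e')
  have hd₁ : smulHom _ d₀ ≫ e' = R q σ hσ ρ a b ha hb := by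
    rw [← hd₀, Category.assoc, IsIso.inv_hom_id, Category.comp_id]
  refine ⟨smulHom _ ((pullback.snd q v).appTop d₀) ≫ e.hom, (key d₀).trans hd₁, fun θ hθ => ?_⟩
  obtain ⟨d, rfl⟩ := hform θ
  rw [IsNorm, key d, ← hd₁] at hθ
  rw [smulHom_injective hI' ((cancel_mono e').1 hθ)]

theorem isNorm_unique {V : Scheme.{u}} {v : V ⟶ S} {i j : ι} {a : V ⟶ U i} {b : V ⟶ U j} {ha : a ≫ u i = v}
    {hb : b ≫ u j = v} (he : Nonempty (pb (Xm q a ha) (N i) ≅ pb (Xm q b hb) (N j)))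
    {θ θ' : pb (Xm q a ha) (N i) ⟶ pb (Xm q b hb) (N j)} (h : IsNorm q σ hσ ρ a b ha hb θ)
    (h' : IsNorm q σ hσ ρ a b ha hb θ') : θ = θ' :=
  (existsUnique_isNorm q σ hσ ρ hN ha₀ a b ha hb he).unique h h'


end Groth.Agent.RigDesc22

end
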